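import Cfsg.Agent.CGT.Univ
import Cfsg.Prelude.Def_SporadicB

/-! General lemmas on groups acting on a class of transpositions, used for the Fischer groups. -/

set_option autoImplicit false

namespace CL.CGT.Tower

open Cfsg

section basic
variable {G : Type*} [Group G]

theorem braid_conj {x y : G} (hx : x * x = 1) (hy : y * y = 1) (h : (x * y) ^ 3 = 1) :
    (x * y) * x * (x * y)⁻¹ = y := by
  have hx' : x⁻¹ = x := inv_eq_of_mul_eq_one_right hx
  have hy' : y⁻¹ = y := inv_eq_of_mul_eq_one_right hy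
  have h1 : (x * y * x * y * x) * y = 1 := by rw [← h]; simp [pow_succ, mul_assoc]
  rw [mul_inv_rev, hx', hy', ← hy', eq_inv_iff_mul_eq_one, ← h1, hy']
  simp [mul_assoc]

theorem isConj_of_braid {x y : G} (hx : x * x = 1) (hy : y * y = 1) (h : (x * y) ^ 3 = 1) :
    IsConj x y := isConj_iff.2 ⟨_, braid_conj hx hy h⟩

theorem commute_of_sq {x y : G} (hx : x * x = 1) (hy : y * y = 1) (h : (x * y) ^ 2 = 1) :
    Commute x y := by
  have hx' : x⁻¹ = x := inv_eq_of_mul_eq_one_right hx
  have hy' : y⁻¹ = y := inv_eq_of_mul_eq_one_right hy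
  have : x * y = (x * y)⁻¹ := eq_inv_of_mul_eq_one_left (by rw [← h, pow_two])
  rw [Commute, SemiconjBy, this, mul_inv_rev, hx', hy']

/-- Iwasawa's argument for a point stabiliser with a central element whose conjugates generate. -/
theorem commutator_le_of_coatom {H : Subgroup G} (hmax : IsCoatom H) (hcore : H.normalCore = ⊥)
    {t : G} (ht : H ≤ Subgroup.centralizer {t}) (hgen : Subgroup.normalClosure {t} = ⊤)
    {K : Subgroup G} [hK : K.Normal] (hne : K ≠ ⊥) : commutator G ≤ K := by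
  have h1 : ¬ K ≤ H := fun hle => hne (eq_bot_iff.2 (hcore ▸ Subgroup.normal_le_normalCore.2 hle))
  have h2 : K ⊔ H = ⊤ := hmax.2 _ (right_lt_sup.2 h1)
  have h3 : ∀ g : G, Commute (g : G ⧸ K) t := by
    intro g
    have hg : g ∈ K ⊔ H := h2 ▸ Subgroup.mem_top g
    rw [← SetLike.mem_coe, Subgroup.normal_mul] at hg
    obtain ⟨k, hk, y, hy, rfl⟩ := hg
    have h4 : t * y = y * t := Subgroup.mem_centralizer_iff.1 (ht hy) t rfl
    simp only [QuotientGroup.mk_mul, (QuotientGroup.eq_one_iff k).2 hk, one_mul]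
    rw [Commute, SemiconjBy, ← QuotientGroup.mk_mul, ← h4, QuotientGroup.mk_mul]
  have h5 : (⊤ : Subgroup G) ≤ (Subgroup.center (G ⧸ K)).comap (QuotientGroup.mk' K) := by
    rw [← hgen]
    refine Subgroup.normalClosure_le_normal ?_
    rintro _ rfl
    rw [SetLike.mem_coe, Subgroup.mem_comap, Subgroup.mem_center_iff]
    intro q
    obtain ⟨g, rfl⟩ := QuotientGroup.mk_surjective q
    exact h3 g
  rw [commutator_def, Subgroup.commutator_le]
  intro x _ y _
  rw [← QuotientGroup.eq_one_iff, ← QuotientGroup.mk'_apply, map_commutatorElement,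
    commutatorElement_eq_one_iff_mul_comm]
  exact (Subgroup.mem_center_iff.1 (h5 (Subgroup.mem_top y)) _)

theorem isSimpleGroup_of_iwasawa {H : Subgroup G} (hmax : IsCoatom H) (hcore : H.normalCore = ⊥)
    {t : G} (ht : H ≤ Subgroup.centralizer {t}) (hgen : Subgroup.normalClosure {t} = ⊤)
    (hperf : commutator G = ⊤) : IsSimpleGroup G := by
  have : Nontrivial G := by
    by_contra h
    rw [not_nontrivial_iff_subsingleton] at h
    exact hmax.1 (Subsingleton.elim _ _)
  refine ⟨fun K hK => ?_⟩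
  by_cases h : K = ⊥
  · exact Or.inl h
  · exact Or.inr (eq_top_iff.2 (hperf ▸ commutator_le_of_coatom hmax hcore ht hgen h))

/-- If every non-trivial normal subgroup of `G` contains the subgroup `L` of index two, whose order
is not a square, then `L` is simple. -/
theorem isSimpleGroup_of_index_two [Finite G] {L : Subgroup G} (h2 : L.index = 2)
    (hmin : ∀ K : Subgroup G, K.Normal → K ≠ ⊥ → L ≤ K) (hsq : ¬ IsSquare (Nat.card L)) :
    IsSimpleGroup L := by
  have hLn : L.Normal := Subgroup.normal_of_index_eq_two h2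
  have : Nontrivial L := by
    by_contra h
    rw [not_nontrivial_iff_subsingleton] at h
    exact hsq ⟨1, by simp [Nat.card_unique]⟩
  refine ⟨fun M hM => ?_⟩
  obtain ⟨a, ha⟩ := Subgroup.index_eq_two_iff.1 h2
  let M1 := M.map L.subtype
  have hM1 : M1 ≤ L := Subgroup.map_subtype_le M
  have hn1 : ∀ g ∈ L, ∀ m ∈ M1, g * m * g⁻¹ ∈ M1 := by
    rintro g hg _ ⟨m, hm, rfl⟩
    exact ⟨_, hM.conj_mem m hm ⟨g, hg⟩, rfl⟩
  let M2 := M1.map (MulAut.conj a).toMonoidHom
  have hmem2 : ∀ x, x ∈ M2 ↔ a⁻¹ * x * a ∈ M1 := by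
    intro x
    constructor
    · rintro ⟨m, hm, rfl⟩; simpa [mul_assoc] using hm
    · intro h; exact ⟨_, h, by simp [mul_assoc]⟩
  have hM2 : M2 ≤ L := fun x hx => by
    simpa [mul_assoc] using hLn.conj_mem _ (hM1 ((hmem2 x).1 hx)) a
  have hn2 : ∀ g ∈ L, ∀ m ∈ M2, g * m * g⁻¹ ∈ M2 := by
    intro g hg m hm
    rw [hmem2] at hm ⊢
    have := hn1 _ (hLn.conj_mem' g hg a) _ hm
    simpa [mul_assoc] using this
  have h12 : ∀ g ∉ L, ∀ m ∈ M1, g * m * g⁻¹ ∈ M2 := by
    intro g hg m hm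
    have h1 : g⁻¹ * a ∈ L := ((ha g⁻¹).resolve_right fun h => hg (by simpa using h.1)).1
    rw [hmem2]
    simpa [mul_assoc] using hn1 _ (L.inv_mem h1) m hm
  have h21 : ∀ g ∉ L, ∀ m ∈ M2, g * m * g⁻¹ ∈ M1 := by
    intro g hg m hm
    have h1 : g * a ∈ L := ((ha g).resolve_right (fun h => hg h.1)).1
    simpa [mul_assoc] using hn1 _ h1 _ ((hmem2 m).1 hm)
  have hinf : (M1 ⊓ M2).Normal := ⟨fun m hm g => by
    by_cases hg : g ∈ L
    · exact ⟨hn1 g hg m hm.1, hn2 g hg m hm.2⟩
    · exact ⟨h21 g hg m hm.2, h12 g hg m hm.1⟩⟩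
  by_cases hb : M1 ⊓ M2 = ⊥
  · by_cases h0 : M = ⊥
    · exact Or.inl h0
    exfalso
    have hsup : (M1 ⊔ M2).Normal := ⟨fun m hm g => by
      have : M1 ⊔ M2 ≤ (M1 ⊔ M2).comap (MulAut.conj g).toMonoidHom := by
        refine sup_le (fun x hx => ?_) fun x hx => ?_
        · by_cases hg : g ∈ L
          · exact Subgroup.mem_sup_left (hn1 g hg x hx)
          · exact Subgroup.mem_sup_right (h12 g hg x hx)
        · by_cases hg : g ∈ L
          · exact Subgroup.mem_sup_right (hn2 g hg x hx)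
          · exact Subgroup.mem_sup_left (h21 g hg x hx)
      exact this hm⟩
    have hne : M1 ⊔ M2 ≠ ⊥ := fun h => h0 ((Subgroup.map_eq_bot_iff_of_injective M
      L.subtype_injective).1 (eq_bot_iff.2 (h ▸ le_sup_left)))
    have he : M1 ⊔ M2 = L := le_antisymm (sup_le hM1 hM2) (hmin _ hsup hne)
    have hc : Nat.card M2 = Nat.card M1 :=
      Subgroup.card_map_of_injective (MulAut.conj a).injective
    let N2 := M2.subgroupOf L
    have hN2 : N2.Normal := ⟨fun m hm g => hn2 g g.2 m hm⟩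
    have hcompl : M.IsComplement' N2 := by
      refine Subgroup.isComplement'_of_disjoint_and_mul_eq_univ ?_ ?_
      · rw [disjoint_iff, eq_bot_iff]
        intro x hx
        have : (x : G) ∈ M1 ⊓ M2 := ⟨⟨x, hx.1, rfl⟩, hx.2⟩
        rw [hb] at this
        exact Subtype.ext this
      · rw [← Subgroup.normal_mul, ← Subgroup.coe_top, SetLike.coe_set_eq]
        apply Subgroup.map_injective L.subtype_injective
        rw [Subgroup.map_sup, Subgroup.subgroupOf_map_subtype, inf_eq_left.2 hM2,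
          ← MonoidHom.range_eq_map, Subgroup.range_subtype]
        exact he
    refine hsq ⟨Nat.card M, ?_⟩
    rw [← hcompl.card_mul_card, Nat.card_congr (Subgroup.subgroupOfEquivOfLe hM2).toEquiv, hc,
      Subgroup.card_map_of_injective L.subtype_injective]
  · right
    rw [eq_top_iff]
    intro x _
    obtain ⟨y, hy, e⟩ := (hmin _ hinf hb x.2).1
    rwa [← Subtype.ext e]

/-- Non-split double covers from a central extension. -/
theorem isNonsplitDoubleCover_of {Y K : Type*} [Group Y] [Group K] (f : Y →* K)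
    (hf : Function.Surjective f) (hker : Nat.card f.ker = 2) (hZ : Subgroup.center K = ⊥)
    (hc : f.ker ≤ commutator Y) : IsNonsplitDoubleCover Y K := by
  have h1 : f.ker ≤ Subgroup.center Y := by
    intro z hz
    rw [Subgroup.mem_center_iff]
    intro g
    by_cases h0 : z = 1
    · simp [h0]
    obtain ⟨w, -, hw⟩ := (Nat.card_eq_two_iff' (1 : f.ker)).1 hker
    have e1 := hw ⟨z, hz⟩ fun h => h0 (congrArg Subtype.val h)
    have e2 := hw ⟨g * z * g⁻¹, f.normal_ker.conj_mem z hz g⟩ fun h => h0 (by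
      simpa using congrArg Subtype.val h)
    have e3 : g * z * g⁻¹ = z := congrArg Subtype.val (e2.trans e1.symm)
    rw [← mul_inv_eq_iff_eq_mul, e3]
  have h2 : Subgroup.center Y = f.ker := by
    refine le_antisymm (fun z hz => ?_) h1
    rw [MonoidHom.mem_ker, ← Subgroup.mem_bot, ← hZ, Subgroup.mem_center_iff]
    intro g
    obtain ⟨y, rfl⟩ := hf g
    rw [← map_mul, Subgroup.mem_center_iff.1 hz y, map_mul]
  refine ⟨by rw [h2, hker], ⟨(QuotientGroup.quotientMulEquivOfEq h2).trans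
    (QuotientGroup.quotientKerEquivOfSurjective f hf)⟩, fun L hL => ?_⟩
  have h3 : L.index = 2 := by rw [hL.index_eq_card, h2, hker]
  have := Subgroup.normal_of_index_eq_two h3
  have h4 : commutator Y ≤ L := by
    have h5 : Nat.card (Y ⧸ L) = 2 := h3
    have : Fact (Nat.Prime 2) := ⟨Nat.prime_two⟩
    have h6 := isCyclic_of_prime_card h5
    rw [commutator_def, Subgroup.commutator_le]
    intro x _ y _
    rw [← QuotientGroup.eq_one_iff, ← QuotientGroup.mk'_apply, map_commutatorElement,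
      commutatorElement_eq_one_iff_mul_comm]
    exact h6.isMulCommutative.is_comm.comm _ _
  have h7 : Subgroup.center Y = ⊥ :=
    eq_bot_iff.2 (hL.disjoint.le_bot.trans' (le_inf le_rfl (h2 ▸ hc.trans h4)))
  rw [← h2, h7, Subgroup.card_bot] at hker
  omega

theorem IsNonsplitDoubleCover.congr {Y Y' K : Type*} [Group Y] [Group Y'] [Group K]
    (h : IsNonsplitDoubleCover Y K) (e : Y ≃* Y') : IsNonsplitDoubleCover Y' K := by
  obtain ⟨h1, ⟨f⟩, h3⟩ := h
  have hm : (Subgroup.center Y).map (e : Y →* Y') = Subgroup.center Y' := by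
    ext y
    obtain ⟨x, rfl⟩ := e.surjective y
    simp only [Subgroup.mem_map, MonoidHom.coe_coe, EmbeddingLike.apply_eq_iff_eq, exists_eq_right,
      Subgroup.mem_center_iff, e.surjective.forall, ← map_mul]
  refine ⟨by rw [← hm, Subgroup.card_map_of_injective e.injective, h1],
    ⟨(QuotientGroup.congr _ _ e hm).symm.trans f⟩, fun L hL => h3 (L.comap (e : Y →* Y')) ?_⟩
  refine Subgroup.isComplement'_of_disjoint_and_mul_eq_univ ?_ ?_
  · rw [disjoint_iff, eq_bot_iff]
    intro x hx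
    have : e x ∈ Subgroup.center Y' ⊓ L := ⟨hm ▸ ⟨x, hx.1, rfl⟩, hx.2⟩
    rw [hL.disjoint.eq_bot] at this
    simpa using this
  · rw [Set.eq_univ_iff_forall]
    intro x
    obtain ⟨⟨⟨a, ha⟩, ⟨b, hb⟩⟩, hab⟩ := hL.2 (e x)
    rw [← hm] at ha
    obtain ⟨a', ha', rfl⟩ := ha
    refine ⟨a', ha', e.symm b, by simpa using hb, e.injective ?_⟩
    simpa using hab

/-- Conjugate elements have isomorphic centralisers. -/
theorem centralizer_conj (t g : G) : (Subgroup.centralizer {t}).map (MulAut.conj g).toMonoidHom =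
    Subgroup.centralizer {g * t * g⁻¹} := by
  ext x
  obtain ⟨y, rfl⟩ := (MulAut.conj g).surjective x
  rw [show (MulAut.conj g) y = (MulAut.conj g).toMonoidHom y from rfl,
    Subgroup.mem_map_iff_mem (MulAut.conj g).injective]
  simp only [Subgroup.mem_centralizer_singleton_iff, MulEquiv.toMonoidHom_eq_coe, MonoidHom.coe_coe,
    ← MulAut.conj_apply, ← map_mul, EmbeddingLike.apply_eq_iff_eq]

theorem nonempty_centralizer_equiv {t d : G} (h : IsConj t d) :
    Nonempty (Subgroup.centralizer {t} ≃* Subgroup.centralizer {d}) := by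
  obtain ⟨g, rfl⟩ := isConj_iff.1 h
  exact ⟨((Subgroup.centralizer {t}).equivMapOfInjective _ (MulAut.conj g).injective).trans
    (MulEquiv.subgroupCongr (centralizer_conj t g))⟩

theorem card_conjugatesOf (t : G) :
    Nat.card (conjugatesOf t) = (Subgroup.centralizer {t}).index := by
  have e1 : conjugatesOf t = MulAction.orbit (ConjAct G) t := by
    ext x; rw [ConjAct.mem_orbit_conjAct]; exact isConj_comm
  rw [e1, Nat.card_coe_set_eq, ← MulAction.index_stabilizer, ConjAct.stabilizer_eq_centralizer,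
    Subgroup.index_eq_card, Subgroup.index_eq_card]
  rfl

end basic

section rep
variable {G : Type*} [Group G] {ρ : Rep G} {H : Subgroup G} {N : ℕ}

theorem commute_of_fix (h : IsCoset ρ H N) {t : G} (ht : H ≤ Subgroup.centralizer {t}) {g u : G}
    (hg : ρ.φ g (ρ.φ u 0) = ρ.φ u 0) : Commute g (u * t * u⁻¹) := by
  have h1 : u⁻¹ * g * u ∈ H := by
    rw [h.mem_iff, map_mul, map_mul, map_inv, Equiv.Perm.mul_apply, Equiv.Perm.mul_apply, hg]
    simp
  have h2 := Subgroup.mem_centralizer_singleton_iff.1 (ht h1)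
  have : g * (u * t * u⁻¹) = u * (u⁻¹ * g * u * t) * u⁻¹ := by group
  rw [Commute, SemiconjBy, this, h2]
  group

theorem conj_eq_of_apply_eq (h : IsCoset ρ H N) {t : G} (ht : H ≤ Subgroup.centralizer {t})
    {u v : G} (huv : ρ.φ u 0 = ρ.φ v 0) : u * t * u⁻¹ = v * t * v⁻¹ := by
  have h1 : v⁻¹ * u ∈ H := by
    rw [h.mem_iff, map_mul, map_inv, Equiv.Perm.mul_apply, huv]; simp
  have h2 := Subgroup.mem_centralizer_singleton_iff.1 (ht h1)
  have : u * t * u⁻¹ = v * (v⁻¹ * u * t) * u⁻¹ := by group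
  rw [this, h2]
  group

theorem fix_of_commute {t : G} (h : IsCoset ρ (Subgroup.centralizer {t}) N) {g u : G}
    (hg : Commute g (u * t * u⁻¹)) : ρ.φ g (ρ.φ u 0) = ρ.φ u 0 := by
  have h1 : u⁻¹ * g * u ∈ Subgroup.centralizer {t} := by
    rw [Subgroup.mem_centralizer_singleton_iff]
    have : u⁻¹ * g * u * t = u⁻¹ * (g * (u * t * u⁻¹)) * u := by group
    rw [this, hg]
    group
  rw [h.mem_iff, map_mul, map_mul, map_inv, Equiv.Perm.mul_apply, Equiv.Perm.mul_apply,
    Equiv.Perm.inv_eq_iff_eq] at h1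
  exact h1

theorem eq_centralizer_of_coatom (hmax : IsCoatom H) {t : G} (ht : H ≤ Subgroup.centralizer {t})
    {g : G} (hg : ¬ Commute g t) : Subgroup.centralizer {t} = H := by
  by_contra hne
  have := hmax.2 _ (lt_of_le_of_ne ht (Ne.symm hne))
  exact hg (Subgroup.mem_centralizer_singleton_iff.1 (this ▸ Subgroup.mem_top g))

/-- The conjugates of `t` are 3-transpositions if the action on them has rank three. -/
theorem isThreeTranspositionClass (h : IsCoset ρ H N) {t : G} (ht : H ≤ Subgroup.centralizer {t})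
    (h2 : orderOf t = 2) (hgen : Subgroup.normalClosure {t} = ⊤) {u v : G}
    (hcov : ∀ p < N, p = 0 ∨ p ∈ ρ.orb H (ρ.φ u 0) ∨ p ∈ ρ.orb H (ρ.φ v 0))
    (hu : (t * (u * t * u⁻¹)) ^ 2 = 1) (hv : (t * (v * t * v⁻¹)) ^ 3 = 1) :
    IsThreeTranspositionClass (conjugatesOf t) := by
  have key : ∀ g : G, (t * (g * t * g⁻¹)) ^ 2 = 1 ∨ (t * (g * t * g⁻¹)) ^ 3 = 1 := by
    have aux : ∀ (n : ℕ) (w g : G), (t * (w * t * w⁻¹)) ^ n = 1 → ρ.φ g 0 ∈ ρ.orb H (ρ.φ w 0) →
        (t * (g * t * g⁻¹)) ^ n = 1 := by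
      rintro n w g hw ⟨x, hx, e⟩
      have e1 := conj_eq_of_apply_eq h ht (u := x * w) (v := g) (by rw [map_mul]; exact e)
      have e2 := Subgroup.mem_centralizer_singleton_iff.1 (ht hx)
      have e3 : t * (g * t * g⁻¹) = x * (t * (w * t * w⁻¹)) * x⁻¹ := by
        rw [← e1, ← mul_assoc x t, e2]; group
      rw [e3, conj_pow, hw]; simp
    intro g
    rcases hcov _ (h.apply_lt g h.pos) with h1 | h1 | h1
    · left
      have e1 := conj_eq_of_apply_eq h ht (u := g) (v := 1) (by simpa using h1)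
      have e2 : t ^ 2 = 1 := h2 ▸ pow_orderOf_eq_one t
      rw [e1, one_mul, inv_one, mul_one, ← pow_two, e2, one_pow]
    · exact Or.inl (aux 2 u g hu h1)
    · exact Or.inr (aux 3 v g hv h1)
  refine ⟨⟨fun d hd => ?_, fun d hd e he => ?_⟩, ⟨t, mem_conjugatesOf_self, rfl⟩, ?_⟩
  · obtain ⟨x, rfl⟩ := isConj_iff.1 hd
    rw [← h2, ← MulAut.conj_apply, MulEquiv.orderOf_eq]
  · obtain ⟨x, rfl⟩ := isConj_iff.1 hd
    obtain ⟨y, rfl⟩ := isConj_iff.1 he
    have e3 : x * t * x⁻¹ * (y * t * y⁻¹) = x * (t * (x⁻¹ * y * t * (x⁻¹ * y)⁻¹)) * x⁻¹ := by group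
    rw [e3, conj_pow, conj_pow]
    rcases key (x⁻¹ * y) with h1 | h1 <;> rw [h1] <;> simp
  · rw [← hgen, Subgroup.normalClosure]
    congr 1
    ext x
    simp [Group.mem_conjugatesOfSet_iff, conjugatesOf]

/-- The points `pts` form a base. -/
def IsBase (ρ : Rep G) (pts : List ℕ) : Prop := ∀ g : G, (∀ p ∈ pts, ρ.φ g p = p) → g = 1

/-- The words `u`, `v` agree on the points `pts`. -/
noncomputable def eqP (ns : List Net) (pts u v : List ℕ) : Bool :=
  allL pts fun p => Nat.beq (walk ns u p) (walk ns v p)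

theorem IsBase.wval_eq {pts u v : List ℕ} (h : IsBase ρ pts) (e : eqP ρ.ns pts u v = true) :
    wval ρ.γ u = wval ρ.γ v := by
  rw [← inv_mul_eq_one]
  refine h _ fun p hp => ?_
  rw [map_mul, map_inv, Equiv.Perm.mul_apply, Equiv.Perm.inv_eq_iff_eq, ρ.φ_wval_apply,
    ρ.φ_wval_apply]
  exact (beq_iff.1 (allL_spec e p hp)).symm

theorem gen_le_centralizer (hf : ρ.Faithful N) {subs : List (List ℕ)} {u : List ℕ} {w : ℕ}
    (h : eqAll ρ.ns ρ.B w (mapL (fun s => (appL s u, appL u s)) subs) = true) :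
    gen ρ.γ subs ≤ Subgroup.centralizer {wval ρ.γ u} := by
  rw [gen_le]
  intro s hs
  have := hf.wval_eq (wval_pm_eq_of_eqAll ρ.ok h) (appL s u, appL u s) (by
    rw [mapL_eq]; exact List.mem_map_of_mem (f := fun s => (appL s u, appL u s)) hs)
  simp only [appL_eq, wval_append] at this
  exact Subgroup.mem_centralizer_singleton_iff.2 this.symm

end rep

section words
variable {G : Type*} [Group G] {γ : ℕ → G}

theorem ivT_id {IV n : ℕ} (h : allLt n (fun c => Nat.beq (dig IV 8 c) c) = true) (c : ℕ) :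
    ivT IV n c = c := by
  rw [ivT, cnd_eq_ite]
  split_ifs with hc
  · rfl
  · exact beq_iff.1 (allLt_spec h c (by simpa [ble_iff] using hc))

theorem sq_of_hiv {IV n : ℕ} (hiv : ∀ c, γ (ivT IV n c) = (γ c)⁻¹)
    (h : allLt n (fun c => Nat.beq (dig IV 8 c) c) = true) (c : ℕ) : γ c * γ c = 1 := by
  have := hiv c
  rw [ivT_id h] at this
  exact mul_eq_one_iff_eq_inv.2 this

theorem hiv_of_sq {IV n : ℕ} (hs : ∀ c, γ c * γ c = 1)
    (h : allLt n (fun c => Nat.beq (dig IV 8 c) c) = true) (c : ℕ) :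
    γ (ivT IV n c) = (γ c)⁻¹ := by
  rw [ivT_id h]
  exact mul_eq_one_iff_eq_inv.1 (hs c)

/-- `(x y) ^ m` is one of the relators. -/
abbrev RelOK (base : List (List ℕ)) (m x y : ℕ) : Prop := pw [y, x] m ∈ base ∨ pw [x, y] m ∈ base

theorem RelOK.pow_eq {base : List (List ℕ)} (hb : ∀ r ∈ base, wval γ r = 1) {m x y : ℕ}
    (h : RelOK base m x y) : (γ x * γ y) ^ m = 1 := by
  rcases h with h | h
  · simpa [wval_pw] using hb _ h
  · have h1 : (γ y * γ x) ^ m = 1 := by simpa [wval_pw] using hb _ h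
    have h2 : γ x * γ y = γ x * (γ y * γ x) * (γ x)⁻¹ := by group
    rw [h2, conj_pow, h1]; simp

/-- The word conjugating the first letter of a path in the Coxeter diagram to the last one. -/
def cpath : List ℕ → List ℕ
  | x :: y :: l => y :: x :: cpath (y :: l)
  | _ => []

theorem cpath_spec {base : List (List ℕ)} (hs : ∀ c, γ c * γ c = 1) (hb : ∀ r ∈ base, wval γ r = 1)
    (x : ℕ) (l : List ℕ) (h : List.IsChain (RelOK base 3) (x :: l)) :
    wval γ (cpath (x :: l)) * γ x * (wval γ (cpath (x :: l)))⁻¹ = γ ((x :: l).getLast (by simp)) := by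
  induction l generalizing x with
  | nil => simp [cpath]
  | cons y l ih =>
    rw [List.isChain_cons_cons] at h
    have h1 := braid_conj (hs x) (hs y) (h.1.pow_eq hb)
    rw [List.getLast_cons (by simp), ← ih y h.2, ← h1, cpath, wval_cons, wval_cons]
    group

/-- The paths `P c` lead from `x` to `c`, for all `c < n`. -/
abbrev PathsOK (base : List (List ℕ)) (x n : ℕ) (P : List (List ℕ)) : Prop :=
  ∀ c < n, List.IsChain (RelOK base 3) (x :: P.getD c []) ∧ (x :: P.getD c []).getLast (by simp) = c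

theorem PathsOK.conj {base : List (List ℕ)} (hs : ∀ c, γ c * γ c = 1)
    (hb : ∀ r ∈ base, wval γ r = 1) {x n : ℕ} {P : List (List ℕ)} (h : PathsOK base x n P) {c : ℕ}
    (hc : c < n) : wval γ (cpath (x :: P.getD c [])) * γ x * (wval γ (cpath (x :: P.getD c [])))⁻¹ =
      γ c := by
  rw [cpath_spec hs hb x _ (h c hc).1, (h c hc).2]

theorem normalClosure_eq_top {n : ℕ} (htop : genLt γ n = ⊤) {t : G}
    (h : ∀ c < n, IsConj t (γ c)) : Subgroup.normalClosure {t} = ⊤ := by
  rw [eq_top_iff, ← htop, genLt, Subgroup.closure_le]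
  rintro _ ⟨c, hc, rfl⟩
  obtain ⟨g, hg⟩ := isConj_iff.1 (h c hc)
  rw [← hg]
  have h0 : t ∈ Subgroup.normalClosure ({t} : Set G) :=
    Subgroup.subset_normalClosure (Set.mem_singleton t)
  exact Subgroup.Normal.conj_mem inferInstance t h0 g

theorem map_wval_of_isConj {A : Type*} [CommGroup A] (f : G →* A) {t : G} {w : List ℕ}
    (h : ∀ c ∈ w, IsConj t (γ c)) : f (wval γ w) = f t ^ w.length := by
  induction w with
  | nil => simp
  | cons c w ih =>
    rw [wval_cons, map_mul, ih fun x hx => h x (List.mem_cons_of_mem _ hx), List.length_cons,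
      pow_succ, isConj_iff_eq.1 (f.map_isConj (h c List.mem_cons_self))]

theorem mem_commutator_of_odd {t : G} (ht : t * t = 1) {w : List ℕ} (h : ∀ c ∈ w, IsConj t (γ c))
    (hw : wval γ w ∈ commutator G) (hodd : w.length % 2 = 1) : t ∈ commutator G := by
  rw [← Abelianization.ker_of, MonoidHom.mem_ker] at hw ⊢
  rw [map_wval_of_isConj _ h, ← Nat.div_add_mod w.length 2, hodd, pow_succ, pow_mul, pow_two,
    ← map_mul, ht, map_one, one_pow, one_mul] at hw
  exact hw

theorem mem_commutator_of_even {t : G} (ht : t * t = 1) {w : List ℕ} (h : ∀ c ∈ w, IsConj t (γ c))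
    (hev : w.length % 2 = 0) : wval γ w ∈ commutator G := by
  rw [← Abelianization.ker_of, MonoidHom.mem_ker, map_wval_of_isConj _ h,
    ← Nat.div_add_mod w.length 2, hev, add_zero, pow_mul, pow_two, ← map_mul, ht, map_one, one_pow]

theorem commutator_eq_top {t : G} (hgen : Subgroup.normalClosure {t} = ⊤)
    (ht : t ∈ commutator G) : commutator G = ⊤ := by
  rw [eq_top_iff, ← hgen]
  exact Subgroup.normalClosure_le_normal (by rintro _ rfl; exact ht)

theorem mem_center_of_commute {n : ℕ} (htop : genLt γ n = ⊤) {g : G}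
    (h : ∀ c < n, Commute g (γ c)) : g ∈ Subgroup.center G := by
  have : genLt γ n ≤ Subgroup.centralizer {g} := by
    rw [genLt, Subgroup.closure_le]
    rintro _ ⟨c, hc, rfl⟩
    exact Subgroup.mem_centralizer_singleton_iff.2 (h c hc).symm
  exact Subgroup.mem_center_iff.2 fun x =>
    Subgroup.mem_centralizer_singleton_iff.1 (this (htop ▸ Subgroup.mem_top x))

theorem center_eq_bot [IsSimpleGroup G] {x y : G} (h : ¬ Commute x y) : Subgroup.center G = ⊥ :=
  (IsSimpleGroup.eq_bot_or_eq_top_of_normal _ inferInstance).resolve_right fun e =>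
    h (Subgroup.mem_center_iff.1 (e ▸ Subgroup.mem_top y) x)

theorem not_commute_of_braid {x y : G} (hx : x * x = 1) (hy : y * y = 1) (h : (x * y) ^ 3 = 1)
    (hne : x ≠ y) : ¬ Commute x y := fun hc => hne (by
  have h1 := braid_conj hx hy h
  rwa [mul_inv_eq_iff_eq_mul, mul_assoc x y x, ← hc.eq, ← mul_assoc, hx, one_mul, hc.eq,
    ← mul_assoc y, hy, one_mul, eq_comm] at h1)

/-- exact order and index from upper bounds. -/
theorem card_index_eq {O : Subgroup G} {n m : ℕ} (hG : Nat.card G = n * m) (hn : 0 < n) (hm : 0 < m)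
    (h1 : O.index ≤ n) (h2 : Nat.card O ≤ m) : O.index = n ∧ Nat.card O = m := by
  have h3 := O.index_mul_card
  rw [hG] at h3
  constructor <;> nlinarith

/-- The points of the generators form a base. -/
theorem isBase_of_paths {ρ : Rep G} {H : Subgroup G} {N n : ℕ} (h : IsCoset ρ H N) {t : G}
    (ht : H ≤ Subgroup.centralizer {t}) (htop : genLt ρ.γ n = ⊤) (hZ : Subgroup.center G = ⊥)
    {U : ℕ → List ℕ} (hU : ∀ c < n, wval ρ.γ (U c) * t * (wval ρ.γ (U c))⁻¹ = ρ.γ c)
    {pts : List ℕ} (hp : ∀ c < n, walk ρ.ns (U c) 0 ∈ pts) : IsBase ρ pts := by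
  intro g hg
  rw [← Subgroup.mem_bot, ← hZ]
  refine mem_center_of_commute htop fun c hc => ?_
  rw [← hU c hc]
  apply commute_of_fix h ht
  rw [ρ.φ_wval_apply]
  exact hg _ (hp c hc)

end words

end CL.CGT.Tower
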