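import Cfsg.Agent.CGT.Fi.T22
import Cfsg.Agent.CGT.Fi.Tower

/-! The presented group `Fi22`: simplicity, the class of transpositions. -/

set_option autoImplicit false

namespace CL.CGT.Fi22

open Tower Cfsg

theorem hs : ∀ c, γ c * γ c = 1 := sq_of_hiv hiv (by decide +kernel)

/-- paths in the diagram from `a` to the other nodes. -/
def P : List (List ℕ) := [[], [1], [1, 2], [1, 2, 3], [1, 2, 3, 4], [1, 2, 3, 4, 5], [1, 2, 3, 4, 5, 6],
  [1, 2, 3, 7], [1, 2, 3, 7, 8]]

theorem paths : PathsOK base 0 9 P := by decide +kernel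

theorem isConj {c : ℕ} (hc : c < 9) : IsConj (γ 0) (γ c) := isConj_iff.2 ⟨_, paths.conj hs hb hc⟩

theorem ncl : Subgroup.normalClosure {γ 0} = ⊤ := normalClosure_eq_top genLt_top fun _ => isConj

/-- the subgroup `2·U₆(2)`. -/
abbrev H : Subgroup Spor.Fi22 := gen γ T.subs

theorem isCoset : IsCoset T.ρ H 3510 := T.isCoset

theorem faithful : T.ρ.Faithful 3510 := T.card.2.2

instance finite : Finite Spor.Fi22 := T.card.1

theorem card : Nat.card Spor.Fi22 = 64561751654400 := T.card.2.1

theorem le_cent : H ≤ Subgroup.centralizer {γ 0} := by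
  have h := gen_le_centralizer faithful (subs := T.subs) (u := [0]) (w := 12) (by decide +kernel)
  rwa [wval_cons, wval_nil, one_mul] at h

theorem coatom : IsCoatom H := T.isCoset.isCoatom_of_orbsOK (by norm_num) T.horbs (by decide +kernel)

theorem perfect : commutator Spor.Fi22 = ⊤ :=
  commutator_eq_top ncl (mem_commutator_of_odd (γ := γ) (hs 0) (w := pw [7, 5, 4, 3, 2, 1, 0] 9)
    (fun c hc => isConj ((by decide +kernel : ∀ c ∈ pw [7, 5, 4, 3, 2, 1, 0] 9, c < 9) c hc))
    (by rw [hb _ (by decide +kernel)]; exact one_mem _) (by decide +kernel))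

instance simple : IsSimpleGroup Spor.Fi22 :=
  isSimpleGroup_of_iwasawa coatom (isCoset.normalCore_eq_bot faithful) le_cent ncl perfect

theorem isFi22 : IsFi22 Spor.Fi22 := ⟨simple, card⟩

theorem rel {m x y : ℕ} (h : RelOK base m x y := by decide +kernel) : (γ x * γ y) ^ m = 1 := h.pow_eq hb

theorem γ_apply (c p : ℕ) : T.ρ.φ (γ c) p = walk T.ns [c] p := by
  have h := T.ρ.φ_wval_apply [c] p
  rwa [wval_cons, wval_nil, one_mul] at h

theorem not_commute : ¬ Commute (γ 1) (γ 0) := by
  refine not_commute_of_braid (hs 1) (hs 0) rel fun h => ?_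
  have h1 := γ_apply 1 0
  rw [h, γ_apply] at h1
  revert h1
  decide +kernel

theorem cent_eq : Subgroup.centralizer {γ 0} = H := eq_centralizer_of_coatom coatom le_cent not_commute

theorem center_eq : Subgroup.center Spor.Fi22 = ⊥ := center_eq_bot not_commute

theorem orderOf_a : orderOf (γ 0) = 2 :=
  orderOf_eq_prime (by rw [pow_two, hs]) fun h => not_commute (h ▸ Commute.one_right _)

theorem card_H : Nat.card H = 18393661440 := isCoset.card_eq card

theorem cover (p : ℕ) (hp : p < 3510) : p = 0 ∨ p ∈ T.ρ.orb H 6 ∨ p ∈ T.ρ.orb H 1 := by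
  rcases orbsOK_cover T.ρ T.horbs hp with h | ⟨t, ht, h⟩
  · exact Or.inl h
  · simp only [T.orbs, List.mem_cons, List.not_mem_nil, or_false] at ht
    rcases ht with rfl | rfl
    · exact Or.inr (Or.inr h)
    · exact Or.inr (Or.inl h)

theorem orb6 : (T.ρ.orb H 6).ncard = 693 :=
  (orbsOK_orb T.ρ T.horbs (List.mem_cons_of_mem _ List.mem_cons_self)).2.2

theorem orb1 : (T.ρ.orb H 1).ncard = 2816 := (orbsOK_orb T.ρ T.horbs List.mem_cons_self).2.2

theorem three : IsThreeTranspositionClass (conjugatesOf (γ 0)) := by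
  have e1 : T.ρ.φ (wval γ (cpath (0 :: P.getD 2 []))) 0 = 6 :=
    (T.ρ.φ_wval_apply _ _).trans (by decide +kernel)
  have e2 : T.ρ.φ (γ 1) 0 = 1 := (γ_apply _ _).trans (by decide +kernel)
  refine isThreeTranspositionClass isCoset le_cent orderOf_a ncl
    (u := wval γ (cpath (0 :: P.getD 2 []))) (v := γ 1) (by rw [e1, e2]; exact cover) ?_ ?_
  · rw [paths.conj hs hb (by norm_num)]; exact rel
  · rw [inv_eq_of_mul_eq_one_right (hs 1), ← mul_assoc, ← mul_assoc, mul_assoc _ (γ 0), ← pow_two,
      ← pow_mul, mul_comm 2, pow_mul, rel, one_pow]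

theorem card_class : Nat.card (conjugatesOf (γ 0)) = 3510 := by
  rw [card_conjugatesOf, cent_eq, isCoset.index]

/-- the points of the generators. -/
def pts : List ℕ := [0, 2, 6, 16, 40, 88, 154, 43, 92]

theorem isBase : IsBase T.ρ pts :=
  isBase_of_paths isCoset le_cent genLt_top center_eq (U := fun c => cpath (0 :: P.getD c []))
    (fun _ hc => paths.conj hs hb hc) (by decide +kernel)

/-- the subgroup `O₇(3)`. -/
abbrev O : Subgroup Spor.Fi22 := gen γ FiY.Y2.gens

theorem index_card_O : O.index = 14080 ∧ Nat.card O = 4585351680 := by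
  refine card_index_eq card (by norm_num) (by norm_num) ?_ (cardO hiv hb).2
  have h := (FiY.Y1.relIndex_le hiv (hbY hb)).2
  rwa [show gen γ FiY.Y1.gens = ⊤ from T.gens_top, Subgroup.relIndex_top_right] at h

end CL.CGT.Fi22
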