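import Cfsg.Agent.CGT.Fi.T23
import Cfsg.Agent.CGT.Fi.M22

/-! The presented group `Fi23`: order, simplicity, the class of transpositions. -/

set_option autoImplicit false

namespace CL.CGT.Tower

theorem ker_le_center {Y K : Type*} [Group Y] [Group K] (f : Y →* K) (hker : Nat.card f.ker = 2) :
    f.ker ≤ Subgroup.center Y := by
  intro z hz
  rw [Subgroup.mem_center_iff]
  intro g
  by_cases h0 : z = 1
  · simp [h0]
  obtain ⟨w, -, hw⟩ := (Nat.card_eq_two_iff' (1 : f.ker)).1 hker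
  have e1 := hw ⟨z, hz⟩ fun h => h0 (congrArg Subtype.val h)
  have e2 := hw ⟨g * z * g⁻¹, f.normal_ker.conj_mem z hz g⟩ fun h => h0 (by
    simpa using congrArg Subtype.val h)
  have e3 : g * z * g⁻¹ = z := congrArg Subtype.val (e2.trans e1.symm)
  rw [← mul_inv_eq_iff_eq_mul, e3]

theorem eq_of_card_two {Y : Type*} [Group Y] {Z : Subgroup Y} (h : Nat.card Z = 2) {z x : Y} (hz : z ∈ Z)
    (hz1 : z ≠ 1) (hx : x ∈ Z) : x = 1 ∨ x = z := by
  obtain ⟨w, -, hw⟩ := (Nat.card_eq_two_iff' (1 : Z)).1 h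
  by_cases h0 : x = 1
  · exact Or.inl h0
  · exact Or.inr (congrArg Subtype.val ((hw ⟨x, hx⟩ fun h => h0 (congrArg Subtype.val h)).trans
      (hw ⟨z, hz⟩ fun h => hz1 (congrArg Subtype.val h)).symm))

/-- normal subgroups of a perfect central extension of a simple group. -/
theorem le_ker_or_eq_top {Y K : Type*} [Group Y] [Group K] [IsSimpleGroup K] (f : Y →* K)
    (hf : Function.Surjective f) (hZ : f.ker ≤ Subgroup.center Y) (hp : commutator Y = ⊤)
    (M : Subgroup Y) [hM : M.Normal] : M ≤ f.ker ∨ M = ⊤ := by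
  rcases IsSimpleGroup.eq_bot_or_eq_top_of_normal _ (hM.map f hf) with h | h
  · exact Or.inl ((Subgroup.map_eq_bot_iff M).1 h)
  right
  rw [eq_top_iff, ← hp, commutator_def, Subgroup.commutator_le]
  intro x _ y _
  obtain ⟨m, hm, e⟩ : f x ∈ M.map f := h ▸ Subgroup.mem_top _
  have h1 : m⁻¹ * x ∈ Subgroup.center Y := hZ (by rw [MonoidHom.mem_ker, map_mul, map_inv, e, inv_mul_cancel])
  have h2 := Subgroup.mem_center_iff.1 h1 y
  have h3 : x * y * x⁻¹ * y⁻¹ = m * (y * m⁻¹ * y⁻¹) :=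
    calc x * y * x⁻¹ * y⁻¹ = m * (m⁻¹ * x * y) * x⁻¹ * y⁻¹ := by group
      _ = m * (y * m⁻¹ * y⁻¹) := by rw [← h2]; group
  rw [commutatorElement_def, h3]
  exact M.mul_mem hm (hM.conj_mem _ (M.inv_mem hm) y)

theorem card_ker_eq_two {Y K : Type*} [Group Y] [Group K] [Finite Y] (f : Y →* K)
    (hf : Function.Surjective f) (h : Nat.card Y ≤ 2 * Nat.card K) {z : Y} (hz : z ∈ f.ker) (hz1 : z ≠ 1) :
    Nat.card f.ker = 2 ∧ Nat.card Y = 2 * Nat.card K := by
  have h1 := f.ker.card_mul_index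
  rw [Subgroup.index_ker, MonoidHom.range_eq_top.2 hf, Subgroup.card_top] at h1
  have : Nontrivial f.ker := ⟨⟨⟨z, hz⟩, 1, fun e => hz1 (congrArg Subtype.val e)⟩⟩
  have h2 : 1 < Nat.card f.ker := Finite.one_lt_card
  have : Finite K := Finite.of_surjective f hf
  have h3 : 0 < Nat.card K := Nat.card_pos
  have h4 : Nat.card f.ker = 2 := by nlinarith
  exact ⟨h4, by rw [← h1, h4]⟩

theorem coxγ_of_le {α : Type} [DecidableEq α] {edges : List (α × ℕ × α)} {extra : List (FreeGroup α)}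
    {cl : List (α × Bool)} {c : ℕ} (hc : cl.length ≤ c) : coxγ edges extra cl c = 1 := by
  rw [coxγ, colF, List.getElem?_eq_none hc]; simp

end CL.CGT.Tower

namespace CL.CGT.FiY

open Tower Cfsg

theorem hs : ∀ c, γ c * γ c = 1 := sq_of_hiv hiv (by decide +kernel)

theorem paths : PathsOK base 0 9 Fi22.P := by decide +kernel

theorem isConj {c : ℕ} (hc : c < 9) : IsConj (γ 0) (γ c) := isConj_iff.2 ⟨_, paths.conj hs hb hc⟩

theorem perfect : commutator U = ⊤ :=
  commutator_eq_top (normalClosure_eq_top genLt_top fun _ => isConj)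
    (mem_commutator_of_odd (γ := γ) (hs 0) (w := pw [7, 5, 4, 3, 2, 1, 0] 9)
    (fun c hc => isConj ((by decide +kernel : ∀ c ∈ pw [7, 5, 4, 3, 2, 1, 0] 9, c < 9) c hc))
    (by rw [hb _ (by decide +kernel)]; exact one_mem _) (by decide +kernel))

theorem gens_top : gen γ Y1.gens = ⊤ := by
  rw [show Y1.gens = sgl 9 by decide +kernel, gen_sgl, genLt_top]

theorem card_U_le : Finite U ∧ Nat.card U ≤ 129123503308800 := by
  have h := card_le hiv hb
  rw [gens_top, Subgroup.card_top] at h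
  exact ⟨h.1.of_equiv _ Subgroup.topEquiv.toEquiv, h.2⟩

instance finite : Finite U := card_U_le.1

/-- the projection `2·Fi₂₂ → Fi₂₂`. -/
noncomputable def π22 : U →* Spor.Fi22 :=
  LP.lift Fi22.γ Fi22.hiv (fun _ hc => coxγ_of_le hc) (Fi22.hbY Fi22.hb)

theorem π22_wval (w : List ℕ) : π22 (wval γ w) = wval Fi22.γ w := LP.lift_wval ..

theorem π22_surjective : Function.Surjective π22 := by
  rw [← MonoidHom.range_eq_top, ← Fi22.genLt_top]
  exact LP.range_lift ..

/-- the central involution `(bcdefgh)^9`. -/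
noncomputable def z : U := wval γ (pw [7, 6, 5, 4, 3, 2, 1] 9)

theorem z_mem : z ∈ π22.ker := by
  rw [MonoidHom.mem_ker, z, π22_wval]
  exact Fi22.hb _ (by decide +kernel)

end CL.CGT.FiY

namespace CL.CGT.Fi23

open Tower Cfsg

theorem hs : ∀ c, γ c * γ c = 1 := sq_of_hiv hiv (by decide +kernel)

/-- the subgroup `2·Fi₂₂`. -/
abbrev H : Subgroup Spor.Fi23 := gen γ T.subs

theorem isCoset : IsCoset T.ρ H 31671 := T.isCoset

/-- the embedding `2·Fi₂₂ → Fi₂₃`. -/
noncomputable def ι : FiY.U →* Spor.Fi23 :=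
  LP.lift (colW γ cwPY) (hiv_ofY hiv) (fun _ hc => colW_of_le hc) (hb_ofY hiv hb)

theorem ι_wval (w : List ℕ) : ι (wval FiY.γ w) = wval γ (flat cwPY w) := by
  rw [wval_flat]; exact LP.lift_wval ..

theorem range_ι : ι.range = H := by
  rw [ι, LP.range_lift, genLt_colW]; rfl

/-- the word `(bcdefgh)^9`. -/
noncomputable def zw : List ℕ := pw [8, 6, 5, 4, 3, 2, 1] 9

/-- the transposition centralised by `H`. -/
noncomputable def z : Spor.Fi23 := wval γ zw

theorem ι_z : ι FiY.z = z := by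
  rw [FiY.z, ι_wval, show flat cwPY (pw [7, 6, 5, 4, 3, 2, 1] 9) = zw by decide +kernel]; rfl

theorem wval_apply (w : List ℕ) (p : ℕ) : T.ρ.φ (wval γ w) p = walk T.ns w p := T.ρ.φ_wval_apply w p

theorem γ_apply (c p : ℕ) : T.ρ.φ (γ c) p = walk T.ns [c] p := by
  have h := wval_apply [c] p
  rwa [wval_cons, wval_nil, one_mul] at h

theorem z_apply : T.ρ.φ z 1 = 8006 := (wval_apply _ _).trans (by decide +kernel)

theorem z_ne_one : z ≠ 1 := fun h => by simpa [h] using z_apply

theorem zY_ne_one : FiY.z ≠ 1 := fun h => z_ne_one (by rw [← ι_z, h, map_one])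

theorem card_ker : Nat.card FiY.π22.ker = 2 ∧ Nat.card FiY.U = 2 * Nat.card Spor.Fi22 :=
  card_ker_eq_two _ FiY.π22_surjective (by rw [Fi22.card]; exact FiY.card_U_le.2) FiY.z_mem zY_ne_one

theorem ker_le : FiY.π22.ker ≤ Subgroup.center FiY.U := ker_le_center FiY.π22 card_ker.1

theorem zY_sq : FiY.z * FiY.z = 1 :=
  (eq_of_card_two card_ker.1 FiY.z_mem zY_ne_one (mul_mem FiY.z_mem FiY.z_mem)).resolve_right
    fun h => zY_ne_one (mul_eq_left.1 h)

/-- the normal subgroups of `2·Fi₂₂` not containing `z`. -/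
theorem eq_bot_of_normal (M : Subgroup FiY.U) [M.Normal] (hz : FiY.z ∉ M) : M = ⊥ := by
  rcases le_ker_or_eq_top FiY.π22 FiY.π22_surjective ker_le FiY.perfect M with h | h
  · rw [eq_bot_iff]
    intro x hx
    rcases eq_of_card_two card_ker.1 FiY.z_mem zY_ne_one (h hx) with e | e
    · exact e
    · exact absurd (e ▸ hx) hz
  · exact absurd (h ▸ Subgroup.mem_top _) hz

theorem ι_injective : Function.Injective ι := by
  rw [← MonoidHom.ker_eq_bot_iff]
  exact eq_bot_of_normal _ fun h => z_ne_one (ι_z ▸ h)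

/-- `H ≅ 2·Fi₂₂`. -/
noncomputable def equivH : FiY.U ≃* H :=
  (MonoidHom.ofInjective ι_injective).trans (MulEquiv.subgroupCongr range_ι)

theorem cover22 : IsNonsplitDoubleCover H Spor.Fi22 :=
  IsNonsplitDoubleCover.congr (isNonsplitDoubleCover_of _ FiY.π22_surjective card_ker.1 Fi22.center_eq
    (FiY.perfect ▸ le_top)) equivH

theorem card_H : Nat.card H = 129123503308800 := by
  rw [← Nat.card_congr equivH.toEquiv, card_ker.2, Fi22.card]

theorem card : Nat.card Spor.Fi23 = 4089470473293004800 := by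
  rw [← H.index_mul_card, isCoset.index, card_H]

instance finite : Finite Spor.Fi23 := Nat.finite_of_card_ne_zero (by rw [card]; norm_num)

theorem core : H.normalCore = ⊥ := by
  have h := eq_bot_of_normal (H.normalCore.comap ι) fun h => by
    have h1 := isCoset.fix_of_normal H.normalCore_le (ι_z ▸ h : z ∈ H.normalCore) (p := 1) (by norm_num)
    rw [z_apply] at h1
    omega
  rw [eq_bot_iff]
  intro x hx
  obtain ⟨y, rfl⟩ : x ∈ ι.range := range_ι ▸ H.normalCore_le hx
  have : y ∈ H.normalCore.comap ι := hx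
  rw [h, Subgroup.mem_bot] at this
  rw [this, map_one]; exact one_mem _

theorem faithful : T.ρ.Faithful 31671 := isCoset.faithful_of_normalCore core

theorem le_cent : H ≤ Subgroup.centralizer {z} := by
  rw [← range_ι]
  rintro _ ⟨y, rfl⟩
  rw [Subgroup.mem_centralizer_singleton_iff, ← ι_z, ← map_mul, ← map_mul,
    Subgroup.mem_center_iff.1 (ker_le FiY.z_mem) y]

theorem z_sq : z * z = 1 := by
  rw [← ι_z, ← map_mul, zY_sq, map_one]

theorem z_braid : (z * γ 7) ^ 3 = 1 := by
  have h : wval γ (appL zw (7 :: zw)) = wval γ (7 :: appL zw [7]) :=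
    faithful.wval_eq_of_eqAll (w := 15) (by decide +kernel)
  simp only [appL_eq, wval_append, wval_cons, wval_nil, one_mul] at h
  change z * γ 7 * z = γ 7 * z * γ 7 at h
  calc (z * γ 7) ^ 3 = (z * γ 7 * z) * (γ 7 * z * γ 7) := by simp only [pow_succ, pow_zero, one_mul, mul_assoc]
    _ = γ 7 * z * (γ 7 * γ 7) * z * γ 7 := by rw [h]; simp only [mul_assoc]
    _ = 1 := by rw [hs, mul_one, mul_assoc _ z z, z_sq, mul_one, hs]

/-- paths in the diagram from `j` to the other nodes. -/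
def P : List (List ℕ) := [[6, 5, 4, 3, 2, 1, 0], [6, 5, 4, 3, 2, 1], [6, 5, 4, 3, 2], [6, 5, 4, 3],
  [6, 5, 4], [6, 5], [6], [], [6, 5, 4, 3, 8], [6, 5, 4, 3, 8, 9]]

theorem paths : PathsOK base 7 10 P := by decide +kernel

/-- words conjugating `z` to the generators. -/
noncomputable def U (c : ℕ) : List ℕ := 7 :: appL zw (cpath (7 :: P.getD c []))

theorem U_conj {c : ℕ} (hc : c < 10) : wval γ (U c) * z * (wval γ (U c))⁻¹ = γ c := by
  rw [← paths.conj hs hb hc, ← braid_conj z_sq (hs 7) z_braid, U, wval_cons, appL_eq, wval_append]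
  change _ * z * γ 7 * z * (_ * z * γ 7)⁻¹ = _
  group

theorem isConj {c : ℕ} (hc : c < 10) : IsConj z (γ c) := isConj_iff.2 ⟨_, U_conj hc⟩

theorem ncl : Subgroup.normalClosure {z} = ⊤ := normalClosure_eq_top genLt_top fun _ => isConj

theorem coatom : IsCoatom H := T.isCoset.isCoatom_of_orbsOK (by norm_num) T.horbs (by decide +kernel)

theorem perfect : commutator Spor.Fi23 = ⊤ :=
  commutator_eq_top ncl (mem_commutator_of_odd (γ := γ) z_sq (w := pw [8, 5, 4, 3, 2, 1, 0] 9)
    (fun c hc => isConj ((by decide +kernel : ∀ c ∈ pw [8, 5, 4, 3, 2, 1, 0] 9, c < 10) c hc))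
    (by rw [hb _ (by decide +kernel)]; exact one_mem _) (by decide +kernel))

instance simple : IsSimpleGroup Spor.Fi23 := isSimpleGroup_of_iwasawa coatom core le_cent ncl perfect

theorem isFi23 : IsFi23 Spor.Fi23 := ⟨simple, card⟩

theorem rel {m x y : ℕ} (h : RelOK base m x y := by decide +kernel) : (γ x * γ y) ^ m = 1 := h.pow_eq hb

theorem not_commute : ¬ Commute (γ 7) z := by
  refine fun h => not_commute_of_braid z_sq (hs 7) z_braid (fun h => ?_) h.symm
  have h1 := z_apply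
  rw [h, γ_apply] at h1
  revert h1
  decide +kernel

theorem cent_eq : Subgroup.centralizer {z} = H := eq_centralizer_of_coatom coatom le_cent not_commute

theorem center_eq : Subgroup.center Spor.Fi23 = ⊥ := center_eq_bot not_commute

theorem orderOf_z : orderOf z = 2 := orderOf_eq_prime (by rw [pow_two, z_sq]) z_ne_one

theorem cover (p : ℕ) (hp : p < 31671) : p = 0 ∨ p ∈ T.ρ.orb H 52 ∨ p ∈ T.ρ.orb H 1 := by
  rcases orbsOK_cover T.ρ T.horbs hp with h | ⟨t, ht, h⟩
  · exact Or.inl h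
  · simp only [T.orbs, List.mem_cons, List.not_mem_nil, or_false] at ht
    rcases ht with rfl | rfl
    · exact Or.inr (Or.inr h)
    · exact Or.inr (Or.inl h)

theorem orb52 : (T.ρ.orb H 52).ncard = 3510 :=
  (orbsOK_orb T.ρ T.horbs (List.mem_cons_of_mem _ List.mem_cons_self)).2.2

theorem orb1 : (T.ρ.orb H 1).ncard = 28160 := (orbsOK_orb T.ρ T.horbs List.mem_cons_self).2.2

theorem γ_mem {c : ℕ} (hc : [c] ∈ T.subs := by decide +kernel) : γ c ∈ H := by
  simpa using wval_mem_gen γ hc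

theorem orb_f : T.ρ.orb H (T.ρ.φ (wval γ (U 5)) 0) = T.ρ.orb H 52 := by
  refine T.ρ.orb_eq_of_mem ⟨wval γ [1, 2, 3, 4, 5, 6, 8, 3, 2, 1, 4, 3, 2, 8, 3, 4],
    wval_mem γ fun c hc => γ_mem ((by decide +kernel : ∀ c ∈ [1, 2, 3, 4, 5, 6, 8, 3, 2, 1, 4, 3, 2, 8, 3, 4],
      [c] ∈ T.subs) c hc), ?_⟩
  rw [wval_apply, wval_apply]
  decide +kernel

theorem three : IsThreeTranspositionClass (conjugatesOf z) := by
  have e2 : T.ρ.φ (γ 7) 0 = 1 := (γ_apply _ _).trans (by decide +kernel)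
  refine isThreeTranspositionClass isCoset le_cent orderOf_z ncl
    (u := wval γ (U 5)) (v := γ 7) (by rw [orb_f, e2]; exact cover) ?_ ?_
  · have h : Commute z (γ 5) := (Subgroup.mem_centralizer_singleton_iff.1 (le_cent γ_mem)).symm
    rw [U_conj (by norm_num), h.mul_pow, pow_two, pow_two, z_sq, hs, one_mul]
  · rw [inv_eq_of_mul_eq_one_right (hs 7), ← mul_assoc, ← mul_assoc, mul_assoc _ z, ← pow_two,
      ← pow_mul, mul_comm 2, pow_mul, z_braid, one_pow]

theorem card_class : Nat.card (conjugatesOf z) = 31671 := by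
  rw [card_conjugatesOf, cent_eq, isCoset.index]

/-- the points of the generators. -/
def pts : List ℕ := [11589, 8004, 8003, 8000, 8001, 8002, 8005, 8006, 7999, 8007]

theorem isBase : IsBase T.ρ pts :=
  isBase_of_paths isCoset le_cent genLt_top center_eq (U := U) (fun _ => U_conj) (by decide +kernel)

end CL.CGT.Fi23
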